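/-
Ext groups out of an object commute with filtered colimits by dimension shifting.
-/
import Groth.Prelude.Def_SGA4c
import Mathlib.CategoryTheory.Abelian.GrothendieckAxioms.Basic
import Mathlib.CategoryTheory.Abelian.GrothendieckCategory.EnoughInjectives
import Mathlib.Algebra.Homology.DerivedCategory.Ext.ExactSequences
import Mathlib.Algebra.Homology.DerivedCategory.Ext.EnoughInjectives
import Mathlib.Algebra.Category.Grp.FilteredColimits
import Mathlib.CategoryTheory.Limits.Types.Filtered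
import Mathlib.CategoryTheory.Limits.Preserves.Filtered
import Mathlib.CategoryTheory.Adjunction.FullyFaithful

set_option backward.isDefEq.respectTransparency false
set_option backward.isDefEq.respectTransparency.types false
set_option linter.style.haveILetI false
set_option linter.unusedSectionVars false
set_option autoImplicit false
set_option maxHeartbeats 1000000

universe w v u

namespace Groth.Agent.ToposColim

open CategoryTheory Category Limits Opposite Abelian

section Coind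

variable {A : Type u} [Category.{v} A] [Abelian A] [EnoughInjectives A] [HasProducts.{w} A]
  {Λ : Type w} [SmallCategory Λ]

/-- the diagram coinduced from injective hulls -/
noncomputable def coind (F : Λ ⥤ A) : Λ ⥤ A where
  obj i := ∏ᶜ fun a : Σ j, (i ⟶ j) => Injective.under (F.obj a.1)
  map {i i'} g := Pi.lift fun a => Pi.π (fun a : Σ j, (i ⟶ j) => Injective.under (F.obj a.1)) ⟨a.1, g ≫ a.2⟩
  map_id i := Pi.hom_ext _ _ fun ⟨j, b⟩ => by
    simp only [Pi.lift_π, id_comp]
    rw [Category.id_comp b]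
  map_comp {i i' i''} g g' := Pi.hom_ext _ _ fun ⟨j, b⟩ => by
    simp only [Pi.lift_π, assoc]
    rw [Category.assoc g g' b]

/-- the embedding into the coinduced diagram -/
noncomputable def coindι (F : Λ ⥤ A) : F ⟶ coind F where
  app i := Pi.lift fun a => F.map a.2 ≫ Injective.ι (F.obj a.1)
  naturality i i' g := Pi.hom_ext _ _ fun ⟨j, b⟩ => by
    simp [coind]

lemma mono_coindι (F : Λ ⥤ A) (i : Λ) : Mono ((coindι F).app i) := by
  haveI : Mono ((coindι F).app i ≫ Pi.π (fun a : Σ j, (i ⟶ j) => Injective.under (F.obj a.1)) ⟨i, 𝟙 i⟩) := by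
    simp only [coindι, Pi.lift_π, F.map_id, id_comp]
    infer_instance
  exact mono_of_mono _ (Pi.π (fun a : Σ j, (i ⟶ j) => Injective.under (F.obj a.1)) ⟨i, 𝟙 i⟩)

lemma injective_coind (F : Λ ⥤ A) (i : Λ) : Injective ((coind F).obj i) :=
  inferInstanceAs (Injective (∏ᶜ fun a : Σ j, (i ⟶ j) => Injective.under (F.obj a.1)))

end Coind

section Ext

variable {A : Type u} [Category.{v} A] [Abelian A] [HasExt.{v} A] [EnoughInjectives A] [HasProducts.{v} A]
  {Λ : Type v} [SmallCategory Λ] [IsFiltered Λ] [HasColimitsOfShape Λ A] [HasExactColimitsOfShape Λ A]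

lemma sub_comp_mk₀ {X Y Z : A} {n : ℕ} (a b : Ext X Y n) (g : Y ⟶ Z) :
    (a - b).comp (Ext.mk₀ g) (add_zero n) = a.comp (Ext.mk₀ g) (add_zero n) - b.comp (Ext.mk₀ g) (add_zero n) :=
  map_sub (AddMonoidHom.mk' (fun x : Ext X Y n => x.comp (Ext.mk₀ g) (add_zero n))
    fun x y => Ext.add_comp _ _ _ _) a b

lemma comp_mk₀_mk₀' {X Y Z W : A} {n : ℕ} (e : Ext X Y n) (a : Y ⟶ Z) (b : Z ⟶ W) :
    (e.comp (Ext.mk₀ a) (add_zero n)).comp (Ext.mk₀ b) (add_zero n) = e.comp (Ext.mk₀ (a ≫ b)) (add_zero n) := by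
  simp [Ext.comp_assoc_of_second_deg_zero]

/-- classes in the colimit come from a stage, uniquely up to later stages -/
def Bij (P : A) (q : ℕ) (F : Λ ⥤ A) : Prop :=
  (∀ z : Ext P (colimit F) q, ∃ (i : Λ) (w : Ext P (F.obj i) q),
      w.comp (Ext.mk₀ (colimit.ι F i)) (add_zero q) = z) ∧
    ∀ (i : Λ) (w : Ext P (F.obj i) q), w.comp (Ext.mk₀ (colimit.ι F i)) (add_zero q) = 0 →
      ∃ (j : Λ) (a : i ⟶ j), w.comp (Ext.mk₀ (F.map a)) (add_zero q) = 0

variable (P : A)
  (hsurj : ∀ (F : Λ ⥤ A) (φ : P ⟶ colimit F), ∃ (i : Λ) (ψ : P ⟶ F.obj i), ψ ≫ colimit.ι F i = φ)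
  (hinj : ∀ (F : Λ ⥤ A) (i : Λ) (ψ : P ⟶ F.obj i), ψ ≫ colimit.ι F i = 0 → ∃ (j : Λ) (a : i ⟶ j), ψ ≫ F.map a = 0)
  (hacy : ∀ F : Λ ⥤ A, (∀ i, Injective (F.obj i)) → ∀ q, Subsingleton (Ext P (colimit F) (q + 1)))

include hsurj hinj hacy in
theorem bij : ∀ (q : ℕ) (F : Λ ⥤ A), Bij P q F := by
  intro q
  induction q with
  | zero =>
    intro F
    refine ⟨fun z => ?_, fun i w hw => ?_⟩
    · obtain ⟨φ, rfl⟩ := (Ext.mk₀_bijective _ _).2 z
      obtain ⟨i, ψ, hψ⟩ := hsurj F φ
      exact ⟨i, Ext.mk₀ ψ, by rw [Ext.mk₀_comp_mk₀, hψ]⟩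
    · obtain ⟨φ, rfl⟩ := (Ext.mk₀_bijective _ _).2 w
      rw [Ext.mk₀_comp_mk₀, ← Ext.mk₀_zero] at hw
      obtain ⟨j, a, ha⟩ := hinj F i φ ((Ext.mk₀_bijective _ _).1 hw)
      exact ⟨j, a, by rw [Ext.mk₀_comp_mk₀, ha, Ext.mk₀_zero]⟩
  | succ q ih =>
    intro F
    let η := coindι F
    haveI : ∀ i, Mono (η.app i) := fun i => mono_coindι F i
    haveI : Mono η := NatTrans.mono_of_mono_app η
    let T : ShortComplex (Λ ⥤ A) := ShortComplex.mk η (cokernel.π η) (cokernel.condition η)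
    have hT : T.ShortExact := { exact := ShortComplex.exact_cokernel η }
    have hTi : ∀ i, (T.map ((evaluation Λ A).obj i)).ShortExact := fun i => hT.map_of_exact _
    haveI : PreservesFiniteLimits (colim : (Λ ⥤ A) ⥤ A) := HasExactColimitsOfShape.preservesFiniteLimits
    haveI : (colim : (Λ ⥤ A) ⥤ A).Additive := ⟨fun {X Y f g} => colimit.hom_ext fun k => by simp⟩
    have hC : (T.map colim).ShortExact := hT.map_of_exact _
    let h₀ : ∀ i, T.map ((evaluation Λ A).obj i) ⟶ T.map colim := fun i =>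
      { τ₁ := colimit.ι T.X₁ i
        τ₂ := colimit.ι T.X₂ i
        τ₃ := colimit.ι T.X₃ i
        comm₁₂ := colimit.ι_map T.f i
        comm₂₃ := colimit.ι_map T.g i }
    let h₁ : ∀ {i j : Λ} (_ : i ⟶ j), T.map ((evaluation Λ A).obj i) ⟶ T.map ((evaluation Λ A).obj j) :=
      fun {i j} a => T.mapNatTrans ((evaluation Λ A).map a)
    have hI : Subsingleton (Ext P (T.map colim).X₂ (q + 1)) := hacy (coind F) (injective_coind F) q
    have hIi : ∀ i, Subsingleton (Ext P (T.map ((evaluation Λ A).obj i)).X₂ (q + 1)) := fun i => by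
      haveI : Injective (T.map ((evaluation Λ A).obj i)).X₂ := injective_coind F i
      exact ⟨fun a b => (Ext.eq_zero_of_injective a).trans (Ext.eq_zero_of_injective b).symm⟩
    have hnat : ∀ (i : Λ) (v : Ext P (T.map ((evaluation Λ A).obj i)).X₃ q),
        (v.comp (hTi i).extClass rfl).comp (Ext.mk₀ (colimit.ι F i)) (add_zero (q + 1)) =
          (v.comp (Ext.mk₀ (colimit.ι T.X₃ i)) (add_zero q)).comp hC.extClass rfl := fun i v => by
      have e := ShortComplex.ShortExact.extClass_naturality (hTi i) hC (h₀ i)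
      rw [Ext.comp_assoc _ _ _ (rfl : q + 1 = q + 1) (add_zero 1) (by omega),
        Ext.comp_assoc _ _ _ (add_zero q) (zero_add 1) (by omega)]
      exact congrArg (fun k => v.comp k rfl) e
    have hnat' : ∀ {i j : Λ} (a : i ⟶ j) (v : Ext P (T.map ((evaluation Λ A).obj i)).X₃ q),
        (v.comp (hTi i).extClass rfl).comp (Ext.mk₀ (F.map a)) (add_zero (q + 1)) =
          (v.comp (Ext.mk₀ (T.X₃.map a)) (add_zero q)).comp (hTi j).extClass rfl := fun {i j} a v => by
      have e := ShortComplex.ShortExact.extClass_naturality (hTi i) (hTi j) (h₁ a)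
      rw [Ext.comp_assoc _ _ _ (rfl : q + 1 = q + 1) (add_zero 1) (by omega),
        Ext.comp_assoc _ _ _ (add_zero q) (zero_add 1) (by omega)]
      exact congrArg (fun k => v.comp k rfl) e
    refine ⟨fun z => ?_, fun i w hw => ?_⟩
    · obtain ⟨v, rfl⟩ := Ext.covariant_sequence_exact₁ _ hC z (Subsingleton.elim _ _) rfl
      obtain ⟨i, v, rfl⟩ := (ih T.X₃).1 v
      exact ⟨i, v.comp (hTi i).extClass rfl, hnat i v⟩
    · obtain ⟨v, rfl⟩ := Ext.covariant_sequence_exact₁ _ (hTi i) w ((hIi i).elim _ _) rfl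
      have hv : (v.comp (Ext.mk₀ (colimit.ι T.X₃ i)) (add_zero q)).comp hC.extClass rfl = 0 :=
        (hnat i v).symm.trans hw
      obtain ⟨y, hy⟩ := Ext.covariant_sequence_exact₃ _ hC _ rfl hv
      obtain ⟨j, y, rfl⟩ := (ih T.X₂).1 y
      let k := IsFiltered.max i j
      let a : i ⟶ k := IsFiltered.leftToMax i j
      let b : j ⟶ k := IsFiltered.rightToMax i j
      let v' := v.comp (Ext.mk₀ (T.X₃.map a)) (add_zero q) -
        (y.comp (Ext.mk₀ (T.X₂.map b)) (add_zero q)).comp (Ext.mk₀ (T.g.app k)) (add_zero q)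
      have hsq : colimit.ι T.X₂ j ≫ colimMap T.g = (T.X₂.map b ≫ T.g.app k) ≫ colimit.ι T.X₃ k := by
        rw [ι_colimMap, T.g.naturality, assoc, colimit.w]
      obtain ⟨l, c, hl⟩ := (ih T.X₃).2 k v' (by
        refine (sub_comp_mk₀ _ _ _).trans (sub_eq_zero.2 ?_)
        refine (comp_mk₀_mk₀' _ _ _).trans ?_
        refine Eq.trans ?_ ((congrArg (fun a => a.comp (Ext.mk₀ (colimit.ι T.X₃ k)) (add_zero q))
          (comp_mk₀_mk₀' _ _ _)).trans (comp_mk₀_mk₀' _ _ _)).symm
        rw [colimit.w]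
        refine hy.symm.trans ((comp_mk₀_mk₀' _ _ _).trans (congrArg (fun a => y.comp (Ext.mk₀ a) (add_zero q)) ?_))
        exact hsq)
      refine ⟨l, a ≫ c, ?_⟩
      rw [hnat']
      have h1 : v.comp (Ext.mk₀ (T.X₃.map (a ≫ c))) (add_zero q) =
          (y.comp (Ext.mk₀ (T.X₂.map (b ≫ c))) (add_zero q)).comp (Ext.mk₀ (T.g.app l)) (add_zero q) := by
        have h2 := sub_eq_zero.1 ((sub_comp_mk₀ _ _ _).symm.trans hl)
        rw [T.X₃.map_comp]
        refine (comp_mk₀_mk₀' _ _ _).symm.trans (h2.trans ?_)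
        rw [comp_mk₀_mk₀', comp_mk₀_mk₀', comp_mk₀_mk₀']
        refine congrArg (fun φ => y.comp (Ext.mk₀ φ) (add_zero q)) ?_
        rw [T.X₂.map_comp]
        simp only [assoc, T.g.naturality]
      rw [h1, Ext.comp_assoc _ _ _ (add_zero q) (zero_add 1) (by omega)]
      exact (congrArg (fun z => (y.comp (Ext.mk₀ _) (add_zero q)).comp z rfl)
        (hTi l).comp_extClass).trans (Ext.comp_zero _ _ _ _ _)

include hsurj hinj hacy in
/-- the functor `Ext^q(P, -)` preserves colimits of shape `Λ` -/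
theorem preservesColimitsOfShape_extFunctor (q : ℕ) :
    PreservesColimitsOfShape Λ ((Abelian.extFunctor.{v} q).obj (op P)) := by
  refine ⟨fun {F} => preservesColimit_of_preserves_colimit_cocone (colimit.isColimit F) ?_⟩
  let G := (Abelian.extFunctor.{v} q).obj (op P)
  haveI : PreservesColimit (F ⋙ G) (forget AddCommGrpCat.{v}) := inferInstance
  haveI : ReflectsColimit (F ⋙ G) (forget AddCommGrpCat.{v}) := reflectsColimit_of_reflectsIsomorphisms _ _
  refine isColimitOfReflects (forget AddCommGrpCat.{v}) ?_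
  obtain ⟨hs, hi⟩ := bij P hsurj hinj hacy q F
  refine Types.FilteredColimit.isColimitOf _ _ (fun z => ?_) fun i j a b h => ?_
  · obtain ⟨i, w, hw⟩ := hs z
    exact ⟨i, w, hw.symm⟩
  · let k := IsFiltered.max i j
    let a' : Ext P (F.obj i) q := a
    let b' : Ext P (F.obj j) q := b
    obtain ⟨l, c, hl⟩ := hi k (a'.comp (Ext.mk₀ (F.map (IsFiltered.leftToMax i j))) (add_zero q) -
        b'.comp (Ext.mk₀ (F.map (IsFiltered.rightToMax i j))) (add_zero q)) (by
      refine (sub_comp_mk₀ _ _ _).trans (sub_eq_zero.2 ?_)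
      rw [comp_mk₀_mk₀', comp_mk₀_mk₀', colimit.w, colimit.w]
      exact h)
    refine ⟨l, IsFiltered.leftToMax i j ≫ c, IsFiltered.rightToMax i j ≫ c, ?_⟩
    have h2 := sub_eq_zero.1 ((sub_comp_mk₀ _ _ _).symm.trans hl)
    rw [comp_mk₀_mk₀', comp_mk₀_mk₀', ← Functor.map_comp, ← Functor.map_comp] at h2
    exact h2

end Ext

end Groth.Agent.ToposColim
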