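/-
Maps out of coherent objects of a sheaf topos commute with filtered colimits (sets and abelian sheaves).
-/
import Groth.Agent.QCTopos.Colim
import Groth.Agent.QCTopos.Objects
import Groth.Agent.ModSiteTensor.Basic
import Groth.Agent.SiteCoh.TotAcyclicPush
import Mathlib.CategoryTheory.Sites.PreservesSheafification
import Mathlib.Algebra.Category.Grp.FilteredColimits

set_option backward.isDefEq.respectTransparency false
set_option backward.isDefEq.respectTransparency.types false
set_option linter.style.haveILetI false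
set_option linter.unusedSectionVars false
set_option autoImplicit false
set_option maxHeartbeats 1000000

universe u w

namespace Groth.Agent.ToposColim

open CategoryTheory Limits Opposite
open ToposFin
open Groth.Agent.PullFlat (Loc univ)
open Groth.Agent.QCTopos
open Groth.Agent.SiteCoh (FR uSet frHom frHom_comp)

variable {C : Type u} [SmallCategory C] {J : GrothendieckTopology C}

/-- compatible maps on a jointly surjective family glue -/
theorem exists_desc {ι : Type w} {F : ι → Sh J} {X Z : Sh J} {π : ∀ i, F i ⟶ X} (hπ : JS π) (v : ∀ i, F i ⟶ Z)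
    (h : ∀ i j, pullback.fst (π i) (π j) ≫ v i = pullback.snd (π i) (π j) ≫ v j) :
    ∃ f : X ⟶ Z, ∀ i, π i ≫ f = v i := by
  have hc : ∀ {U : C} (i j : ι) (s : el (F i) U) (t : el (F j) U), app (π i) s = app (π j) t →
      app (v i) s = app (v j) t := fun {U} i j s t e => by
    obtain ⟨p, h₁, h₂⟩ := exists_pullback_el _ _ s t e
    rw [← h₁, ← h₂, ← app_comp, ← app_comp, h]
  -- sections glue locally
  have hex : ∀ (U : C) (s : el X U), ∃ z : el Z U, ∀ {V : C} (g : V ⟶ U) (i : ι) (t : el (F i) V),
      app (π i) t = res g s → res g z = app (v i) t := by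
    intro U s
    obtain ⟨S, hS, hS'⟩ := hπ U s
    choose ix tx htx using hS'
    have hsh := ((isSheaf_iff_isSheaf_of_type J Z.obj).1 Z.2) S hS
    let x : Presieve.FamilyOfElements Z.obj S.arrows := fun V g hg => app (v (ix g hg)) (tx g hg)
    have hx : x.Compatible := by
      intro V₁ V₂ W g₁ g₂ f₁ f₂ h₁ h₂ e
      show res g₁ (app (v _) _) = res g₂ (app (v _) _)
      rw [← app_res, ← app_res]
      refine hc _ _ _ _ ?_
      rw [app_res, app_res, htx, htx, res_comp, res_comp, e]
    refine ⟨hsh.amalgamate x hx, fun {V} g i t ht => el_ext ((Loc.of_mem (J.pullback_stable g hS)).mono ?_)⟩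
    intro W a ha
    have e := hsh.valid_glue hx (a ≫ g) ha
    refine (res_comp g a _).trans (e.trans ?_)
    show app (v _) _ = _
    rw [← app_res]
    refine hc _ _ _ _ ?_
    rw [htx, app_res, ht, res_comp]
  choose z hz using hex
  let f : X ⟶ Z := ⟨
    { app := fun U => ↾fun s => z U.unop s
      naturality := fun U U' g => by
        ext s
        show z U'.unop (res g.unop s) = res g.unop (z U.unop s)
        refine el_ext ((hπ U'.unop (res g.unop s)).mono ?_)
        rintro V a ⟨i, t, ht⟩
        rw [hz _ _ a i t ht, res_comp, hz _ _ (a ≫ g.unop) i t (by rw [ht, res_comp])] }⟩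
  refine ⟨f, fun i => hom_ext_el fun U t => ?_⟩
  rw [app_comp]
  exact (res_id (z U (app (π i) t))).symm.trans (hz U _ (𝟙 U) i t (res_id _).symm)

/-- `Hom(X, -)` commutes with filtered colimits for coherent `X`. -/
theorem bijective_post (hE : GenBy (J := J) IsQC) {X : Sh J} (hX : IsCoherent X) (I : Type u) [SmallCategory I]
    [IsFiltered I] (D : I ⥤ Sh J) : Function.Bijective (colimit.post D (coyoneda.obj (op X))) := by
  classical
  refine ⟨injective_post_of_qc hX.1 I D, fun σ => ?_⟩
  have hjs : JS fun i => colimit.ι D i := js_of_cancel fun Z a b hab => colimit.hom_ext hab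
  have hP := hjs.pullback_fst (show X ⟶ colimit D from σ)
  choose κ G γ hG hγ using fun i => hE (pullback (show X ⟶ colimit D from σ) (colimit.ι D i))
  have hall := hP.sigma hγ
  obtain ⟨T, hT⟩ := qc_iff.1 hX.1 _ _ _ hall
  let st : T → I := fun p => p.1.1
  let π : ∀ p : T, G p.1.1 p.1.2 ⟶ X := fun p => γ p.1.1 p.1.2 ≫ pullback.fst _ _
  let lift : ∀ p : T, G p.1.1 p.1.2 ⟶ D.obj (st p) := fun p => γ p.1.1 p.1.2 ≫ pullback.snd _ _
  have hlift : ∀ p, lift p ≫ colimit.ι D (st p) = π p ≫ σ := fun p => by
    simp only [lift, π, Category.assoc, pullback.condition]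
    rfl
  obtain ⟨k, hk⟩ := IsFiltered.sup_objs_exists (Finset.univ.image st)
  have hk' : ∀ p : T, Nonempty (st p ⟶ k) := fun p => hk (Finset.mem_image.2 ⟨p, Finset.mem_univ p, rfl⟩)
  let u : ∀ p : T, G p.1.1 p.1.2 ⟶ D.obj k := fun p => lift p ≫ D.map (hk' p).some
  have hu : ∀ p, u p ≫ colimit.ι D k = π p ≫ σ := fun p => by
    simp only [u, Category.assoc, colimit.w, hlift]
  -- overlaps agree at a later stage
  have hov : ∀ p q : T, ∃ (j : I) (a : k ⟶ j),
      pullback.fst (π p) (π q) ≫ u p ≫ D.map a = pullback.snd (π p) (π q) ≫ u q ≫ D.map a := by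
    intro p q
    have hqc := hX.2 _ _ (π p) (π q) (hG _ _) (hG _ _)
    let Q := coyoneda.obj (op (pullback (π p) (π q)))
    have e : colimit.ι (D ⋙ Q) k (pullback.fst (π p) (π q) ≫ u p) =
        colimit.ι (D ⋙ Q) k (pullback.snd (π p) (π q) ≫ u q) := by
      refine injective_post_of_qc hqc I D ?_
      refine (ConcreteCategory.congr_hom (colimit.ι_post D Q k) _).trans
        (Eq.trans ?_ (ConcreteCategory.congr_hom (colimit.ι_post D Q k) _).symm)
      show (pullback.fst (π p) (π q) ≫ u p) ≫ colimit.ι D k = (pullback.snd (π p) (π q) ≫ u q) ≫ colimit.ι D k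
      refine (Category.assoc _ _ _).trans ((congrArg (pullback.fst (π p) (π q) ≫ ·) (hu p)).trans ?_)
      refine Eq.trans ?_ ((congrArg (pullback.snd (π p) (π q) ≫ ·) (hu q)).symm.trans (Category.assoc _ _ _).symm)
      exact pullback.condition_assoc _
    obtain ⟨j, a, ha⟩ := (Types.FilteredColimit.isColimit_eq_iff' (colimit.isColimit (D ⋙ Q)) (i := k) _ _).1 e
    exact ⟨j, a, by simpa [Q] using ha⟩
  choose j a ha using hov
  obtain ⟨m, f, hf⟩ := exists_common (i := k) (Finset.univ.image fun p : T × T => (⟨j p.1 p.2, a p.1 p.2⟩ : Σ j, k ⟶ j))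
  obtain ⟨v, hv⟩ := exists_desc (π := π) hT (fun p => u p ≫ D.map f) fun p q => by
    obtain ⟨c, hc⟩ := hf ⟨j p q, a p q⟩ (Finset.mem_image.2 ⟨(p, q), Finset.mem_univ _, rfl⟩)
    rw [← hc, D.map_comp]
    simpa only [Category.assoc] using congrArg (· ≫ D.map c) (ha p q)
  refine ⟨colimit.ι (D ⋙ coyoneda.obj (op X)) m v, ?_⟩
  refine (ConcreteCategory.congr_hom (colimit.ι_post D (coyoneda.obj (op X)) m) v).trans ?_
  refine (show JS π from hT).cancel fun p => ?_
  show π p ≫ v ≫ colimit.ι D m = π p ≫ σ
  rw [← Category.assoc, hv, Category.assoc, colimit.w, hu]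

/-- underlying sheaves of sets commute with filtered colimits -/
theorem preservesColimitsOfShape_uSet (I : Type u) [SmallCategory I] [IsFiltered I] :
    PreservesColimitsOfShape I (uSet J) := by
  let T : (Cᵒᵖ ⥤ AddCommGrpCat.{u}) ⥤ Sh J :=
    (Functor.whiskeringRight Cᵒᵖ AddCommGrpCat.{u} (Type u)).obj (forget AddCommGrpCat.{u}) ⋙ presheafToSheaf J (Type u)
  haveI : PreservesColimitsOfShape I ((Functor.whiskeringRight Cᵒᵖ AddCommGrpCat.{u} (Type u)).obj (forget AddCommGrpCat.{u})) :=
    inferInstance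
  haveI : PreservesColimitsOfSize.{u, u} (presheafToSheaf J (Type u)) :=
    (sheafificationAdjunction J (Type u)).leftAdjoint_preservesColimits
  haveI : PreservesColimitsOfShape I T := comp_preservesColimitsOfShape _ _
  haveI : IsIso (sheafificationAdjunction J AddCommGrpCat.{u}).counit := inferInstance
  have h := ModSiteTensor.preservesColimitsOfShape_of_reflective (J := I) (sheafificationAdjunction J AddCommGrpCat.{u}) T
    fun P => by
      have hW : J.W (Functor.whiskerRight (toSheafify J P) (forget AddCommGrpCat.{u})) :=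
        GrothendieckTopology.W_of_preservesSheafification J (forget AddCommGrpCat.{u}) _ (J.W_toSheafify P)
      exact (GrothendieckTopology.W_iff J _).1 hW
  exact preservesColimitsOfShape_of_natIso (show sheafToPresheaf J AddCommGrpCat.{u} ⋙ T ≅ uSet J from
    (Functor.isoWhiskerLeft (uSet J) (asIso (sheafificationAdjunction J (Type u)).counit)) ≪≫ (uSet J).rightUnitor)

section Ab

variable (hE : GenBy (J := J) IsQC) {X : Sh J} (hX : IsCoherent X) {I : Type u} [SmallCategory I] [IsFiltered I]
  {D : I ⥤ Sheaf J AddCommGrpCat.{u}} {c : Cocone D} (hc : IsColimit c)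

include hE hX hc in
/-- maps from the free sheaf on a coherent object into a filtered colimit come from a stage -/
theorem stage_surj (φ : (FR J).obj X ⟶ c.pt) : ∃ (i : I) (ψ : (FR J).obj X ⟶ D.obj i), ψ ≫ c.ι.app i = φ := by
  haveI := preservesColimitsOfShape_uSet (J := J) I
  let D' := D ⋙ uSet J
  let hc' := isColimitOfPreserves (uSet J) hc
  let e := (colimit.isColimit D').coconePointUniqueUpToIso hc'
  obtain ⟨z, hz⟩ := (bijective_post hE hX I D').2 (frHom X _ φ ≫ e.inv)
  obtain ⟨i, v, rfl⟩ := Types.jointly_surjective' z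
  refine ⟨i, (frHom X _).symm v, (frHom X _).injective ?_⟩
  rw [frHom_comp, Equiv.apply_symm_apply]
  have h1 := (ConcreteCategory.congr_hom (colimit.ι_post D' (coyoneda.obj (op X)) i) v).symm.trans hz
  have h2 : (v ≫ colimit.ι D' i) ≫ e.hom = frHom X _ φ := by
    rw [show v ≫ colimit.ι D' i = _ from h1]
    simp
  refine Eq.trans ?_ h2
  rw [Category.assoc]
  exact congrArg (v ≫ ·) (IsColimit.comp_coconePointUniqueUpToIso_hom (colimit.isColimit D') hc' i).symm

include hX hc in
/-- maps that die in the colimit die at a stage -/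
theorem stage_inj {i : I} (ψ : (FR J).obj X ⟶ D.obj i) (h : ψ ≫ c.ι.app i = 0) :
    ∃ (j : I) (a : i ⟶ j), ψ ≫ D.map a = 0 := by
  haveI := preservesColimitsOfShape_uSet (J := J) I
  let D' := D ⋙ uSet J
  let hc' := isColimitOfPreserves (uSet J) hc
  let e := (colimit.isColimit D').coconePointUniqueUpToIso hc'
  let z : (FR J).obj X ⟶ D.obj i := 0
  have he : frHom X _ ψ ≫ colimit.ι D' i = frHom X _ z ≫ colimit.ι D' i := by
    rw [← cancel_mono e.hom, Category.assoc, Category.assoc]
    have w := IsColimit.comp_coconePointUniqueUpToIso_hom (colimit.isColimit D') hc' i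
    refine (congrArg (frHom X _ ψ ≫ ·) w).trans (Eq.trans ?_ (congrArg (frHom X _ z ≫ ·) w).symm)
    show frHom X _ ψ ≫ (uSet J).map (c.ι.app i) = frHom X _ z ≫ (uSet J).map (c.ι.app i)
    rw [← frHom_comp, ← frHom_comp, h, zero_comp]
  have e' : colimit.ι (D' ⋙ coyoneda.obj (op X)) i (frHom X _ ψ) = colimit.ι (D' ⋙ coyoneda.obj (op X)) i (frHom X _ z) := by
    refine injective_post_of_qc hX.1 I D' ?_
    exact (ConcreteCategory.congr_hom (colimit.ι_post D' (coyoneda.obj (op X)) i) _).trans
      (he.trans (ConcreteCategory.congr_hom (colimit.ι_post D' (coyoneda.obj (op X)) i) _).symm)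
  obtain ⟨j, a, ha⟩ := (Types.FilteredColimit.isColimit_eq_iff' (colimit.isColimit (D' ⋙ coyoneda.obj (op X))) (i := i) _ _).1 e'
  refine ⟨j, a, (frHom X _).injective ?_⟩
  have ha' : frHom X _ ψ ≫ (uSet J).map (D.map a) = frHom X _ z ≫ (uSet J).map (D.map a) := ha
  rw [frHom_comp, ha', ← frHom_comp, zero_comp]

end Ab

end Groth.Agent.ToposColim
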