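/-
Cartan's criterion on the coherent objects of a topos with a generating family stable under fibre products:
sheaves with exact finite Čech complexes are acyclic, and they are stable under filtered colimits.
-/
import Groth.Agent.ToposColim.Hom
import Groth.Agent.W7TotAcyc.Basic
import Groth.Agent.QCTopos.Algebraic
import Groth.Prelude.Def_ToposFin2

set_option backward.isDefEq.respectTransparency false
set_option backward.isDefEq.respectTransparency.types false
set_option linter.style.haveILetI false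
set_option linter.unusedSectionVars false
set_option autoImplicit false
set_option maxHeartbeats 1000000

universe u

namespace Groth.Agent.ToposColim

open CategoryTheory Category Limits Opposite Abelian AlgebraicTopology Simplicial
open ToposFin
open Groth.Agent.QCTopos
open Groth.Agent.SiteCoh Groth.Agent.W7TotAcyc

variable {C : Type u} [SmallCategory C] {J : GrothendieckTopology C}

/-- a generating set of quasi-compact objects stable under fibre products -/
structure Gen (S : Set (Sh J)) : Prop where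
  qc : ∀ K ∈ S, IsQC K
  gen : IsGenerating S
  pb : ClosedUnderPullbacks S

variable {S : Set (Sh J)}

lemma Gen.genBy (h : Gen S) : GenBy (J := J) IsQC :=
  genBy_of_hasQCGenerators (hasQCGenerators_of_genBy (genBy_of_isGenerating h.gen) h.qc)

lemma Gen.coherent (h : Gen S) {K : Sh J} (hK : K ∈ S) : IsCoherent K :=
  ⟨h.qc K hK, qs_of_mem h.qc h.gen h.pb hK⟩

lemma Gen.qshom (h : Gen S) {K L : Sh J} (hK : K ∈ S) (hL : L ∈ S) (f : K ⟶ L) : IsQSHom f := by
  obtain ⟨P, p, q, hP, hpq⟩ := h.pb f f hK hK hL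
  exact qchom_of_qc_to_qs _ (h.qc K hK) (qs_of_iso hpq.isoPullback (h.coherent hP).2)

/-- coherent objects quasi-separated over a member of the generating set -/
def InK (S : Set (Sh J)) (L : Sh J) : Prop :=
  IsCoherent L ∧ ∃ K ∈ S, ∃ f : L ⟶ K, IsQSHom f

lemma Gen.inK (h : Gen S) {K : Sh J} (hK : K ∈ S) : InK S K :=
  ⟨h.coherent hK, K, hK, 𝟙 K, qshom_of_mono _⟩

/-- iterated fibre products over a quasi-separated morphism of coherent objects -/
lemma nerve_aux {L' L : Sh J} (t : L' ⟶ L) (ht : IsQSHom t) (hL' : IsCoherent L') (hL : IsCoherent L) :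
    ∀ n : ℕ, IsCoherent (widePullback L (fun _ : Fin (n + 1) => L') fun _ => t) ∧
      IsQSHom (WidePullback.base (fun _ : Fin (n + 1) => t)) := by
  intro n
  induction n with
  | zero =>
    let p := WidePullback.π (fun _ : Fin 1 => t) 0
    let s : L' ⟶ widePullback L (fun _ : Fin 1 => L') fun _ => t := WidePullback.lift t (fun _ => 𝟙 _) (fun _ => id_comp _)
    haveI : IsIso p := ⟨s, WidePullback.hom_ext _ _ _
      (fun j => by obtain rfl := Subsingleton.elim j 0; rw [id_comp, assoc, WidePullback.lift_π, comp_id])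
      (by rw [id_comp, assoc, WidePullback.lift_base]; exact WidePullback.π_arrow _ 0),
      WidePullback.lift_π ..⟩
    refine ⟨⟨qc_of_iso (asIso p).symm hL'.1, qs_of_iso (asIso p).symm hL'.2⟩, ?_⟩
    rw [← WidePullback.π_arrow (fun _ : Fin 1 => t) 0]
    exact qshom_comp (qshom_of_mono p) ht
  | succ n ih =>
    obtain ⟨⟨hc, hq⟩, hb⟩ := ih
    let b := WidePullback.base (fun _ : Fin (n + 1) => t)
    let e₁ : widePullback L (fun _ : Fin (n + 1 + 1) => L') (fun _ => t) ⟶ pullback b t :=
      pullback.lift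
        (WidePullback.lift (WidePullback.base _) (fun j : Fin (n + 1) => WidePullback.π _ j.castSucc)
          (fun j => WidePullback.π_arrow _ _))
        (WidePullback.π _ (Fin.last (n + 1))) (by rw [WidePullback.lift_base]; exact (WidePullback.π_arrow _ _).symm)
    let e₂ : pullback b t ⟶ widePullback L (fun _ : Fin (n + 1 + 1) => L') (fun _ => t) :=
      WidePullback.lift (pullback.fst b t ≫ b)
        (Fin.lastCases (motive := fun _ => pullback b t ⟶ L') (pullback.snd b t)
          fun j => pullback.fst b t ≫ WidePullback.π _ j)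
        (fun j => by
          induction j using Fin.lastCases with
          | last => rw [Fin.lastCases_last]; exact pullback.condition.symm
          | cast j => rw [Fin.lastCases_castSucc, assoc]; exact congrArg _ (WidePullback.π_arrow _ j))
    let e : widePullback L (fun _ : Fin (n + 1 + 1) => L') (fun _ => t) ≅ pullback b t :=
      { hom := e₁
        inv := e₂
        hom_inv_id := WidePullback.hom_ext _ _ _
          (fun j => by
            induction j using Fin.lastCases with
            | last => rw [assoc, WidePullback.lift_π, Fin.lastCases_last, pullback.lift_snd, id_comp]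
            | cast j => rw [assoc, WidePullback.lift_π, Fin.lastCases_castSucc, pullback.lift_fst_assoc,
                WidePullback.lift_π, id_comp])
          (by rw [assoc, WidePullback.lift_base, pullback.lift_fst_assoc, WidePullback.lift_base, id_comp])
        inv_hom_id := pullback.hom_ext
          (by
            rw [assoc, pullback.lift_fst, id_comp]
            refine WidePullback.hom_ext _ _ _ (fun j => ?_) ?_
            · rw [assoc, WidePullback.lift_π, WidePullback.lift_π, Fin.lastCases_castSucc]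
            · rw [assoc, WidePullback.lift_base, WidePullback.lift_base])
          (by rw [assoc, pullback.lift_snd, WidePullback.lift_π, Fin.lastCases_last, id_comp]) }
    refine ⟨⟨qc_of_iso e.symm (hL.2 _ _ b t hc hL'.1), qs_of_iso e.symm (qs_pullback t hb hL'.2)⟩, ?_⟩
    rw [show WidePullback.base (fun _ : Fin (n + 1 + 1) => t) = e.hom ≫ pullback.fst b t ≫ b by
      simp [e, e₁, b]]
    haveI : IsIso e.hom := ⟨e.inv, e.hom_inv_id, e.inv_hom_id⟩
    exact qshom_comp (qshom_of_mono e.hom) (qshom_comp (qshom_baseChange (IsPullback.of_hasPullback b t).flip ht) hb)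

lemma inK_nerve {L' L : Sh J} (t : L' ⟶ L) (ht : IsQSHom t) (hL' : InK S L') (hL : InK S L) (n : ℕ) :
    InK S ((Arrow.mk t).cechNerve.obj (op ⦋n⦌)) := by
  obtain ⟨hc, K, hK, f, hf⟩ := hL
  obtain ⟨h₁, h₂⟩ := nerve_aux t ht hL'.1 hc n
  exact ⟨h₁, K, hK, WidePullback.base (fun _ : Fin (n + 1) => t) ≫ f, qshom_comp h₂ hf⟩

/-- exactness of the Čech complexes of finite coverings -/
def Good (S : Set (Sh J)) (F : Sheaf J AddCommGrpCat.{u}) : Prop :=
  ∀ (L' L : Sh J) (t : L' ⟶ L), Epi t → InK S L' → InK S L → IsQSHom t → ∀ n, CEx t F n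

lemma good_injective (I : Sheaf J AddCommGrpCat.{u}) [Injective I] : Good S I :=
  fun _ _ t _ _ _ _ n => cex_injective t I n

lemma good_of_isColimit (h : Gen S) {Λ : Type u} [SmallCategory Λ] [IsFiltered Λ]
    {D : Λ ⥤ Sheaf J AddCommGrpCat.{u}} {c : Cocone D} (hc : IsColimit c) (hD : ∀ i, Good S (D.obj i)) :
    Good S c.pt := fun L' L t ht hL' hL hq n x hx => by
  have hcoh := fun m => (inK_nerve t hq hL' hL m).1
  obtain ⟨i, ψ, hψ⟩ := stage_surj h.genBy (hcoh (n + 1)) hc x
  obtain ⟨j, a, ha⟩ := stage_inj (hcoh (n + 2)) hc ((cP t).d (n + 2) (n + 1) ≫ ψ) (by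
    rw [assoc, hψ, hx])
  obtain ⟨y, hy⟩ := hD j L' L t ht hL' hL hq n (ψ ≫ D.map a) (by rw [← assoc]; exact ha)
  refine ⟨y ≫ c.ι.app j, ?_⟩
  rw [← assoc, hy, assoc, c.w, hψ]

/-- coherent refinement of an epimorphism onto a member of the class -/
lemma exists_cover (h : Gen S) {A L : Sh J} (hL : InK S L) (p : A ⟶ L) [Epi p] :
    ∃ (L' : Sh J) (t : L' ⟶ L) (r : L' ⟶ A), r ≫ p = t ∧ Epi t ∧ InK S L' ∧ IsQSHom t := by
  obtain ⟨κ, G, π, hG, hπ⟩ := genBy_of_isGenerating h.gen A
  obtain ⟨T, hT⟩ := qc_iff.1 hL.1.1 _ _ _ (hπ.postcomp_epi p)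
  obtain ⟨-, K, hK, f, hf⟩ := hL
  let F : T → Sh J := fun i => G i
  let t : ∐ F ⟶ L := Sigma.desc fun i : T => π i ≫ p
  have hqs : IsQSHom (t ≫ f) := qshom_of_cover_source (js_sigma_ι F) (qchom_sigma_ι F) fun i =>
    h.qshom (hG i) hK _
  refine ⟨∐ F, t, Sigma.desc fun i : T => π i, Sigma.hom_ext _ _ fun i => by simp [t], ?_,
    ⟨⟨qc_of_finite_js (js_sigma_ι F) fun i => h.qc _ (hG i), qs_sigma F fun i => (h.coherent (hG i)).2⟩, K, hK,
      t ≫ f, hqs⟩, qshom_of_comp hqs⟩
  exact epi_desc_iff.2 hT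

lemma ext_one_of_good (h : Gen S) {F : Sheaf J AddCommGrpCat.{u}} (hF : Good S F) {L : Sh J} (hL : InK S L) :
    Subsingleton (Ext ((FR J).obj L) F 1) := by
  have hS := embedSeq_shortExact F
  refine subsingleton_ext_one_of_lift hS ((FR J).obj L) fun φ => ?_
  haveI := hS.mono_f
  haveI := hS.epi_g
  haveI : Sheaf.IsLocallySurjective (embedSeq F).g :=
    (Sheaf.isLocallySurjective_iff_epi' (A := AddCommGrpCat.{u}) (embedSeq F).g).mpr inferInstance
  haveI : Sheaf.IsLocallySurjective ((uSet J).map (embedSeq F).g) :=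
    (Presheaf.isLocallySurjective_iff_whisker_forget J (embedSeq F).g.hom).mp inferInstance
  haveI : Epi (pullback.fst (frHom L _ φ) ((uSet J).map (embedSeq F).g)) := epi_fst _ _
  obtain ⟨L', t, r, hr, ht, hL', hq⟩ := exists_cover h hL (pullback.fst (frHom L _ φ) ((uSet J).map (embedSeq F).g))
  haveI := ht
  let p := WidePullback.π (B := (Arrow.mk t).right) (objs := fun _ : Fin 1 => (Arrow.mk t).left)
    (fun _ => (Arrow.mk t).hom) 0
  let a : (cP t).X 0 ⟶ (embedSeq F).X₂ := (frHom ((Arrow.mk t).cechNerve.obj (op ⦋0⦌)) _).symm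
    (p ≫ r ≫ pullback.snd (frHom L _ φ) ((uSet J).map (embedSeq F).g))
  have hbase : ((Arrow.mk t).augmentedCechNerve.hom.app (op ⦋0⦌)) = p ≫ t :=
    (WidePullback.π_arrow _ _).symm
  have ha : a ≫ (embedSeq F).g = eps0 t ≫ φ := by
    apply (frHom ((Arrow.mk t).cechNerve.obj (op ⦋0⦌)) _).injective
    refine (frHom_comp _ _).trans (Eq.trans ?_ (frHom_natK _ _).symm)
    rw [Equiv.apply_symm_apply, hbase]
    have e : (r ≫ pullback.snd (frHom L _ φ) ((uSet J).map (embedSeq F).g)) ≫ (uSet J).map (embedSeq F).g =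
        t ≫ frHom L _ φ := by
      rw [← hr, assoc, assoc, pullback.condition]
    exact (assoc _ _ _).trans ((congrArg (p ≫ ·) e).trans (assoc _ _ _).symm)
  obtain ⟨w, hw⟩ := KernelFork.IsLimit.lift' hS.fIsKernel ((cP t).d 1 0 ≫ a)
    (by rw [Category.assoc, ha, ← Category.assoc, d_eps, zero_comp])
  have hw' : w ≫ (embedSeq F).f = (cP t).d 1 0 ≫ a := hw
  obtain ⟨v, hv⟩ := hF _ _ t ht hL' hL hq 0 w ((cancel_mono (embedSeq F).f).mp (by
    rw [Category.assoc, hw', dd, zero_comp]))
  obtain ⟨ψ, hψ⟩ := factor_zero t (a - v ≫ (embedSeq F).f)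
    (by rw [Preadditive.comp_sub, ← hw', ← hv, Category.assoc, sub_self])
  haveI := epi_eps0 t
  refine ⟨ψ, (cancel_epi (eps0 t)).mp ?_⟩
  rw [← Category.assoc, hψ, Preadditive.sub_comp, Category.assoc, (embedSeq F).zero, comp_zero,
    sub_zero, ha]

lemma good_quotient (h : Gen S) {F : Sheaf J AddCommGrpCat.{u}} (hF : Good S F) : Good S (embedSeq F).X₃ := by
  intro L' L t ht hL' hL hq n x hx
  have hS := embedSeq_shortExact F
  haveI := hS.mono_f
  haveI := ht
  have : Subsingleton (Ext ((cP t).X (n + 1)) (embedSeq F).X₁ 1) :=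
    ext_one_of_good h hF (inK_nerve t hq hL' hL (n + 1))
  obtain ⟨x', hx'⟩ := exists_lift_of_subsingleton_ext_one hS ((cP t).X (n + 1)) x
  obtain ⟨w, hw⟩ := KernelFork.IsLimit.lift' hS.fIsKernel ((cP t).d (n + 2) (n + 1) ≫ x')
    (by rw [Category.assoc, hx', hx])
  have hw' : w ≫ (embedSeq F).f = (cP t).d (n + 2) (n + 1) ≫ x' := hw
  obtain ⟨v, hv⟩ := hF L' L t ht hL' hL hq (n + 1) w ((cancel_mono (embedSeq F).f).mp (by
    rw [Category.assoc, hw', dd, zero_comp]))
  obtain ⟨y, hy⟩ := cex_injective t (embedSeq F).X₂ n (x' - v ≫ (embedSeq F).f)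
    (by rw [Preadditive.comp_sub, ← hw', ← hv, Category.assoc, sub_self])
  exact ⟨y ≫ (embedSeq F).g, by
    rw [← Category.assoc, hy, Preadditive.sub_comp, Category.assoc, (embedSeq F).zero, comp_zero,
      sub_zero, hx']⟩

theorem acyclic_of_good (h : Gen S) {F : Sheaf J AddCommGrpCat.{u}} (hF : Good S F) {L : Sh J} (hL : InK S L)
    (p : ℕ) : Subsingleton (CohCx.HK L F (p + 1)) := by
  induction p generalizing F with
  | zero => exact ext_one_of_good h hF hL
  | succ p ih =>
    have : Subsingleton (Ext ((FR J).obj L) (embedSeq F).X₃ (p + 1)) := ih (good_quotient h hF)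
    exact subsingleton_ext_succ (embedSeq_shortExact F) ((FR J).obj L) (p + 1)

/-- the coherent objects of an algebraic topos form a generating set stable under fibre products -/
theorem gen_coherent (hE : IsAlgebraic J) : Gen (Set.ofPred fun K : Sh J => IsCoherent K) := by
  obtain ⟨S', hqc, hgen, hpb, heq⟩ := id hE
  refine ⟨fun K hK => hK.1, fun X => ?_, fun K L M f g hK hL hM => ?_⟩
  · obtain ⟨ι, F, π, hF, hπ⟩ := hgen X
    exact ⟨ι, F, π, fun i => (Gen.mk hqc hgen hpb).coherent (hF i), hπ⟩
  · refine ⟨pullback f g, pullback.fst f g, pullback.snd f g, ⟨hM.2 _ _ f g hK.1 hL.1, ?_⟩, IsPullback.of_hasPullback f g⟩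
    exact qs_pullback g (qshom_of_qs_of_algebraic hE f hK.2) hL.2

end Groth.Agent.ToposColim
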