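/-
Cohomology in coherent topoi commutes with filtered colimits.
-/
import Groth.Agent.ToposColim.Acyclic
import Groth.Agent.ToposColim.Shift
import Groth.Agent.SiteCoh.Terminal
import Groth.Agent.SiteCoh.PushAcyclic
import Mathlib.GroupTheory.FreeAbelianGroup
import Mathlib.CategoryTheory.Limits.Preserves.FunctorCategory

set_option backward.isDefEq.respectTransparency false
set_option backward.isDefEq.respectTransparency.types false
set_option linter.style.haveILetI false
set_option linter.unusedSectionVars false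
set_option autoImplicit false
set_option maxHeartbeats 1000000

universe u

namespace Groth.Agent.ToposColim

open CategoryTheory Category Limits Opposite Abelian
open ToposFin
open Groth.Agent.QCTopos
open Groth.Agent.SiteCoh

variable {C : Type u} [SmallCategory C] {J : GrothendieckTopology C} {S : Set (Sh J)}
  {Λ : Type u} [SmallCategory Λ] [IsFiltered Λ]

lemma acyclic_colimit (h : Gen S) {L : Sh J} (hL : InK S L) (F : Λ ⥤ Sheaf J AddCommGrpCat.{u})
    (hF : ∀ i, Injective (F.obj i)) (q : ℕ) : Subsingleton (Ext ((FR J).obj L) (colimit F) (q + 1)) :=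
  acyclic_of_good h (good_of_isColimit h (colimit.isColimit F) fun i => by
    haveI := hF i
    exact good_injective _) hL q

/-- classes in degree `q` on a member of the generating set come from a stage -/
theorem bij_hk (h : Gen S) {L : Sh J} (hL : InK S L) (q : ℕ) (F : Λ ⥤ Sheaf J AddCommGrpCat.{u}) :
    Bij ((FR J).obj L) q F :=
  bij ((FR J).obj L) (fun F φ => stage_surj h.genBy hL.1 (colimit.isColimit F) φ)
    (fun F _ ψ hψ => stage_inj hL.1 (colimit.isColimit F) ψ hψ) (fun F hF q => acyclic_colimit h hL F hF q) q F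

theorem preservesColimitsOfShape_hk (h : Gen S) {L : Sh J} (hL : InK S L) (q : ℕ) :
    PreservesColimitsOfShape Λ (ToposFin.HKFunctor L q) :=
  preservesColimitsOfShape_extFunctor ((FR J).obj L) (fun F φ => stage_surj h.genBy hL.1 (colimit.isColimit F) φ)
    (fun F _ ψ hψ => stage_inj hL.1 (colimit.isColimit F) ψ hψ) (fun F hF q => acyclic_colimit h hL F hF q) q

theorem subsingleton_hk_colimit (hqc : ∀ K ∈ S, IsQC K) (hgen : IsGenerating S) (hpb : ClosedUnderPullbacks S)
    (D : Λ ⥤ Sheaf J AddCommGrpCat.{u}) {K : Sh J} (hK : K ∈ S) (q : ℕ)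
    (hD : ∀ i, Subsingleton (CohCx.HK K (D.obj i) (q + 1))) : Subsingleton (CohCx.HK K (colimit D) (q + 1)) := by
  refine subsingleton_of_forall_eq 0 fun z => ?_
  obtain ⟨i, w, hw⟩ := (bij_hk ⟨hqc, hgen, hpb⟩ (Gen.inK ⟨hqc, hgen, hpb⟩ hK) (q + 1) D).1 z
  rw [← hw]
  haveI := hD i
  rw [Subsingleton.elim (α := CohCx.HK K (D.obj i) (q + 1)) w 0]
  exact Ext.zero_comp _ _ _ _ _

/-- the free sheaf on the final object is the constant sheaf -/
noncomputable def freeTopIso : (FR J).obj (⊤_ (Sh J)) ≅ constZ J :=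
  haveI : ∀ U : Cᵒᵖ, Unique (((sheafToPresheaf J (Type u)).obj (⊤_ (Sh J))).obj U) := fun U =>
    Types.isTerminalEquivUnique _
      (IsTerminal.isTerminalObj (sheafToPresheaf J (Type u) ⋙ (evaluation Cᵒᵖ (Type u)).obj U) _ terminalIsTerminal)
  (presheafToSheaf J AddCommGrpCat.{u}).mapIso (NatIso.ofComponents
    (fun U => ((FreeAbelianGroup.uniqueEquiv (((sheafToPresheaf J (Type u)).obj (⊤_ (Sh J))).obj U)).trans AddEquiv.ulift.symm).toAddCommGrpIso)
    fun {U V} g => by
      apply AddCommGrpCat.hom_ext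
      refine FreeAbelianGroup.lift_ext _ _ fun x => ?_
      show ULift.up.{u} ((FreeAbelianGroup.uniqueEquiv _) (FreeAbelianGroup.map _ (FreeAbelianGroup.of x))) =
        ULift.up ((FreeAbelianGroup.uniqueEquiv _) (FreeAbelianGroup.of x))
      simp [FreeAbelianGroup.map_of_apply, FreeAbelianGroup.uniqueEquiv])

/-- global cohomology is cohomology on the final object -/
noncomputable def functorHIso (q : ℕ) :
    ToposFin.HKFunctor (⊤_ (Sh J)) q ≅
      (Sheaf.functorH J q : Sheaf J AddCommGrpCat.{u} ⥤ AddCommGrpCat.{u}) :=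
  (Abelian.extFunctor.{u} q).mapIso (freeTopIso (J := J)).symm.op ≪≫
    NatIso.ofComponents (fun F => Iso.refl _) (fun {F G} f => by
      apply AddCommGrpCat.hom_ext
      ext x
      rfl)

theorem preservesColimitsOfShape_functorH (hE : IsAlgebraic J) (hT : IsCoherent (⊤_ (Sh J))) (q : ℕ) :
    PreservesColimitsOfShape Λ (Sheaf.functorH J q : Sheaf J AddCommGrpCat.{u} ⥤ AddCommGrpCat.{u}) := by
  haveI := preservesColimitsOfShape_hk (Λ := Λ) (gen_coherent hE) ((gen_coherent hE).inK hT) q
  exact preservesColimitsOfShape_of_natIso (functorHIso q)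

/-- cohomology with supports in the complement of a coherent open -/
theorem preservesColimitsOfShape_hz (h : Gen S) (U : Sh J) [Mono (terminal.from U)] (hT : InK S (⊤_ (Sh J)))
    (hU : InK S U) (q : ℕ) : PreservesColimitsOfShape Λ (ToposFin.HZFunctor U q) := by
  let m := (FR J).map (terminal.from U)
  let T : ShortComplex (Sheaf J AddCommGrpCat.{u}) := ShortComplex.mk m (cokernel.π m) (cokernel.condition m)
  have hS : T.ShortExact := { exact := ShortComplex.exact_cokernel m }
  refine preservesColimitsOfShape_extFunctor (quotZ U) (fun F φ => ?_) (fun F i ψ hψ => ?_) (fun F hF q => ?_) q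
  · obtain ⟨i, ψ, hψ⟩ := stage_surj h.genBy hT.1 (colimit.isColimit F) (cokernel.π m ≫ φ)
    obtain ⟨j, a, ha⟩ := stage_inj hU.1 (colimit.isColimit F) (m ≫ ψ) (by
      rw [assoc, hψ, cokernel.condition_assoc, zero_comp])
    refine ⟨j, cokernel.desc m (ψ ≫ F.map a) ((assoc _ _ _).symm.trans ha), ?_⟩
    apply coequalizer.hom_ext
    refine (cokernel.π_desc_assoc _ _ _ _).trans ?_
    rw [assoc, colimit.w]
    exact hψ
  · obtain ⟨j, a, ha⟩ := stage_inj hT.1 (colimit.isColimit F) (cokernel.π m ≫ ψ) (by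
      rw [assoc]; exact (congrArg (cokernel.π m ≫ ·) hψ).trans comp_zero)
    exact ⟨j, a, coequalizer.hom_ext (((assoc _ _ _).symm.trans ha).trans comp_zero.symm)⟩
  · refine subsingleton_of_forall_eq 0 fun z => ?_
    obtain ⟨y, hy⟩ : ∃ y, hS.extClass.comp y (show 1 + q = q + 1 by omega) = z :=
      Ext.contravariant_sequence_exact₃ hS _ z ((acyclic_colimit h hT F hF q).elim _ _) (by omega)
    rw [← hy]
    cases q with
    | succ q =>
      haveI := acyclic_colimit h hU F hF q
      rw [Subsingleton.elim (α := Ext ((FR J).obj U) (colimit F) (q + 1)) y 0, Ext.comp_zero]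
    | zero =>
      obtain ⟨φ, rfl⟩ := (Ext.mk₀_bijective _ _).2 y
      obtain ⟨i, ψ, hψ⟩ := stage_surj h.genBy hU.1 (colimit.isColimit F) φ
      haveI := hF i
      have hφ : φ = T.f ≫ Injective.factorThru ψ m ≫ colimit.ι F i := by
        rw [← assoc, show T.f ≫ Injective.factorThru ψ m = ψ from Injective.comp_factorThru _ _]
        exact hψ.symm
      rw [hφ, ← Ext.mk₀_comp_mk₀, ← Ext.comp_assoc _ _ _ (add_zero 1) (zero_add 0) (by omega), hS.extClass_comp,
        Ext.zero_comp]

/-- sections over an object with coherent sheaf commute with filtered colimits -/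
theorem preservesColimitsOfShape_sections (h : Gen S) {U : C} (hU : IsCoherent (eps J U)) :
    PreservesColimitsOfShape Λ (sheafToPresheaf J AddCommGrpCat.{u} ⋙ (evaluation Cᵒᵖ AddCommGrpCat.{u}).obj (op U)) := by
  refine ⟨fun {F} => preservesColimit_of_preserves_colimit_cocone (colimit.isColimit F) ?_⟩
  let G := sheafToPresheaf J AddCommGrpCat.{u} ⋙ (evaluation Cᵒᵖ AddCommGrpCat.{u}).obj (op U)
  haveI : ReflectsColimit (F ⋙ G) (forget AddCommGrpCat.{u}) := reflectsColimit_of_reflectsIsomorphisms _ _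
  refine isColimitOfReflects (forget AddCommGrpCat.{u}) ?_
  let e : ∀ (H : Sheaf J AddCommGrpCat.{u}), ((FR J).obj (eps J U) ⟶ H) ≃ H.obj.obj (op U) := fun H =>
    (frHom (eps J U) H).trans (repEquiv U ((uSet J).obj H))
  have he : ∀ {H H' : Sheaf J AddCommGrpCat.{u}} (φ : (FR J).obj (eps J U) ⟶ H) (g : H ⟶ H'),
      e H' (φ ≫ g) = g.hom.app (op U) (e H φ) := fun φ g => by
    show repEquiv U _ (frHom _ _ (φ ≫ g)) = _
    rw [frHom_comp, repEquiv_comp]
    rfl
  refine Types.FilteredColimit.isColimitOf _ _ (fun z => ?_) fun i j a b hab => ?_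
  · obtain ⟨i, ψ, hψ⟩ := stage_surj h.genBy hU (colimit.isColimit F) ((e _).symm z)
    refine ⟨i, e _ ψ, ?_⟩
    exact (((he ψ (colimit.ι F i)).symm.trans (congrArg (e (colimit F)) hψ)).trans ((e (colimit F)).apply_symm_apply z)).symm
  · let k := IsFiltered.max i j
    let l := IsFiltered.leftToMax i j
    let r := IsFiltered.rightToMax i j
    let φ := (e _).symm a ≫ F.map l - (e _).symm b ≫ F.map r
    obtain ⟨m, c, hc⟩ := stage_inj hU (colimit.isColimit F) φ (by
      rw [Preadditive.sub_comp, sub_eq_zero, assoc, assoc]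
      refine ((congrArg ((e _).symm a ≫ ·) (colimit.w F l)).trans (Eq.trans ?_ (congrArg ((e _).symm b ≫ ·) (colimit.w F r)).symm))
      apply (e _).injective
      rw [he, he, Equiv.apply_symm_apply, Equiv.apply_symm_apply]
      exact hab)
    refine ⟨m, l ≫ c, r ≫ c, ?_⟩
    rw [Preadditive.sub_comp, sub_eq_zero, assoc, assoc, ← F.map_comp, ← F.map_comp] at hc
    have := congrArg (e _) hc
    rw [he, he, Equiv.apply_symm_apply, Equiv.apply_symm_apply] at this
    exact this

end Groth.Agent.ToposColim
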