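/-
Higher direct images along coherent morphisms commute with filtered colimits.
-/
import Groth.Agent.ToposColim.Main
import Groth.Agent.RDerLib.LES
import Groth.Agent.SiteCoh.DirectImage

set_option backward.isDefEq.respectTransparency false
set_option backward.isDefEq.respectTransparency.types false
set_option linter.style.haveILetI false
set_option linter.unusedSectionVars false
set_option autoImplicit false
set_option maxHeartbeats 1600000

universe v u v' u'

namespace Groth.Agent.ToposColim

open CategoryTheory Category Limits Opposite Abelian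

section Derived

variable {A : Type u} [Category.{v} A] [Abelian A] [EnoughInjectives A] [HasProducts.{v} A]
  {B : Type u'} [Category.{v'} B] [Abelian B] (G : A ⥤ B) [G.Additive] [PreservesFiniteLimits G]
  {Λ : Type v} [SmallCategory Λ] [IsFiltered Λ] [HasColimitsOfShape Λ A] [HasExactColimitsOfShape Λ A]
  [PreservesColimitsOfShape Λ G]
  (hacy : ∀ F : Λ ⥤ A, (∀ i, Injective (F.obj i)) → ∀ q : ℕ, IsZero ((G.rightDerived (q + 1)).obj (colimit F)))

include hacy in
/-- right derived functors commute with colimits for which colimits of injectives are acyclic -/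
theorem preservesColimitsOfShape_rightDerived : ∀ q : ℕ, PreservesColimitsOfShape Λ (G.rightDerived q) := by
  intro q
  induction q with
  | zero => exact preservesColimitsOfShape_of_natIso G.rightDerivedZeroIsoSelf.symm
  | succ q ih =>
    refine ⟨fun {F} => preservesColimit_of_preserves_colimit_cocone (colimit.isColimit F) ?_⟩
    let Δ := RDerLib.derivedLES G
    let H := fun n => G.rightDerived n
    let η := coindι F
    haveI : ∀ i, Mono (η.app i) := fun i => mono_coindι F i
    haveI : Mono η := NatTrans.mono_of_mono_app η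
    let T : ShortComplex (Λ ⥤ A) := ShortComplex.mk η (cokernel.π η) (cokernel.condition η)
    have hT : T.ShortExact := { exact := ShortComplex.exact_cokernel η }
    let Ti := fun i => T.map ((evaluation Λ A).obj i)
    have hTi : ∀ i, (Ti i).ShortExact := fun i => hT.map_of_exact _
    haveI : PreservesFiniteLimits (colim : (Λ ⥤ A) ⥤ A) := HasExactColimitsOfShape.preservesFiniteLimits
    haveI : (colim : (Λ ⥤ A) ⥤ A).Additive := ⟨fun {X Y f g} => colimit.hom_ext fun k => by simp⟩
    have hC : (T.map colim).ShortExact := hT.map_of_exact _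
    let h₀ : ∀ i, Ti i ⟶ T.map colim := fun i =>
      { τ₁ := colimit.ι T.X₁ i
        τ₂ := colimit.ι T.X₂ i
        τ₃ := colimit.ι T.X₃ i
        comm₁₂ := colimit.ι_map T.f i
        comm₂₃ := colimit.ι_map T.g i }
    let h₁ : ∀ {i j : Λ} (_ : i ⟶ j), Ti i ⟶ Ti j := fun {i j} g =>
      T.mapNatTrans ((evaluation Λ A).map g)
    haveI he : ∀ i, Epi (Δ.δ (Ti i) (hTi i) q (q + 1) rfl) := fun i => by
      haveI : Injective (Ti i).X₂ := injective_coind F i
      exact (Δ.exact₁ (Ti i) (hTi i) q (q + 1) rfl).epi_f
        ((G.isZero_rightDerived_obj_injective_succ q (Ti i).X₂).eq_of_tgt _ _)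
    haveI hec : Epi (Δ.δ (T.map colim) hC q (q + 1) rfl) :=
      (Δ.exact₁ (T.map colim) hC q (q + 1) rfl).epi_f ((hacy (coind F) (injective_coind F) q).eq_of_tgt _ _)
    have hnat : ∀ i, (H q).map (colimit.ι T.X₃ i) ≫ Δ.δ (T.map colim) hC q (q + 1) rfl =
        Δ.δ (Ti i) (hTi i) q (q + 1) rfl ≫ (H (q + 1)).map (colimit.ι F i) := fun i =>
      Δ.δ_natural (hTi i) hC (h₀ i) q (q + 1) rfl
    let h2 := isColimitOfPreserves (H q) (colimit.isColimit T.X₂)
    let h3 := isColimitOfPreserves (H q) (colimit.isColimit T.X₃)
    let sc : ∀ s : Cocone (F ⋙ H (q + 1)), Cocone (T.X₃ ⋙ H q) := fun s =>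
      { pt := s.pt
        ι :=
          { app := fun i => Δ.δ (Ti i) (hTi i) q (q + 1) rfl ≫ s.ι.app i
            naturality := fun i j g => by
              have e := Δ.δ_natural (hTi i) (hTi j) (h₁ g) q (q + 1) rfl
              have w := s.w g
              dsimp at e w ⊢
              rw [comp_id, ← assoc]
              refine (congrArg (· ≫ s.ι.app j) e).trans ?_
              rw [assoc]
              exact congrArg _ w } }
    have hz : ∀ s, (H q).map (T.map colim).g ≫ h3.desc (sc s) = 0 := fun s => h2.hom_ext fun i => by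
      rw [comp_zero]
      change (H q).map (colimit.ι T.X₂ i) ≫ (H q).map (T.map colim).g ≫ h3.desc (sc s) = 0
      have ec : (H q).map (colimit.ι T.X₂ i) ≫ (H q).map (T.map colim).g =
          (H q).map (Ti i).g ≫ (H q).map (colimit.ι T.X₃ i) :=
        ((H q).map_comp _ _).symm.trans ((congrArg (H q).map (h₀ i).comm₂₃).trans ((H q).map_comp _ _))
      refine (assoc _ _ _).symm.trans ((congrArg (· ≫ h3.desc (sc s)) ec).trans ((assoc _ _ _).trans ?_))
      have e := h3.fac (sc s) i
      change (H q).map (colimit.ι T.X₃ i) ≫ h3.desc (sc s) = _ at e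
      refine (congrArg _ e).trans ?_
      change _ ≫ Δ.δ (Ti i) (hTi i) q (q + 1) rfl ≫ s.ι.app i = 0
      rw [← assoc, Δ.comp_δ (Ti i) (hTi i) q (q + 1) rfl, zero_comp]
    exact
      { desc := fun s => (Δ.exact₃ (T.map colim) hC q (q + 1) rfl).desc (h3.desc (sc s)) (hz s)
        fac := fun s i => by
          change (H (q + 1)).map (colimit.ι F i) ≫ _ = _
          rw [← cancel_epi (Δ.δ (Ti i) (hTi i) q (q + 1) rfl), ← assoc, ← hnat i, assoc,
            (Δ.exact₃ (T.map colim) hC q (q + 1) rfl).g_desc]
          exact h3.fac (sc s) i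
        uniq := fun s m hm => by
          rw [← cancel_epi (Δ.δ (T.map colim) hC q (q + 1) rfl)]
          refine Eq.trans ?_ ((Δ.exact₃ (T.map colim) hC q (q + 1) rfl).g_desc _ _).symm
          refine h3.hom_ext fun i => ?_
          rw [h3.fac]
          change (H q).map (colimit.ι T.X₃ i) ≫ Δ.δ (T.map colim) hC q (q + 1) rfl ≫ m = _
          rw [← assoc, hnat i, assoc]
          exact congrArg _ (hm i) }

end Derived

section Push

universe w

variable {C D : Type w} [SmallCategory C] [SmallCategory D] {J : GrothendieckTopology C} {K : GrothendieckTopology D}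
  (u : D ⥤ C) [u.IsContinuous K J] {Λ : Type w} [SmallCategory Λ] [IsFiltered Λ]

open Groth.Agent.SiteCoh in
theorem preservesColimitsOfShape_rpush {S : Set (ToposFin.Sh J)} (h : Gen S)
    (hu : ∀ V : D, InK S (ToposFin.eps J (u.obj V))) (q : ℕ) :
    PreservesColimitsOfShape Λ (CohSite.Rpush J K u q) := by
  let P := CohSite.push J K u
  haveI : PreservesColimitsOfShape Λ (P ⋙ sheafToPresheaf K AddCommGrpCat.{w}) := by
    haveI : ∀ V : Dᵒᵖ, PreservesColimitsOfShape Λ
        ((P ⋙ sheafToPresheaf K AddCommGrpCat.{w}) ⋙ (evaluation Dᵒᵖ AddCommGrpCat.{w}).obj V) := fun V => by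
      exact preservesColimitsOfShape_sections (Λ := Λ) h (hu V.unop).1
    exact preservesColimitsOfShape_of_evaluation _ _ inferInstance
  haveI : PreservesColimitsOfShape Λ P :=
    preservesColimitsOfShape_of_reflects_of_preserves P (sheafToPresheaf K AddCommGrpCat.{w})
  haveI : PreservesFiniteLimits P := inferInstance
  refine preservesColimitsOfShape_rightDerived P (fun F hF n => ?_) q
  refine isZero_rpush_of_acyclic u (n + 1) fun V => ?_
  have hacy := acyclic_colimit h (hu V) F hF n
  exact ((((extFunctor (n + 1)).mapIso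
    (asIso ((presheafToSheaf J AddCommGrpCat.{w}).map
      (Functor.whiskerRight (toSheafify J (yoneda.obj (u.obj V))) AddCommGrpCat.free.{w}))).op).app
        (colimit F)).addCommGroupIsoToAddEquiv).toEquiv.subsingleton_congr.mp hacy

end Push

end Groth.Agent.ToposColim
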