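/-
Finitely presentable objects of a topos with coherent generators, and inverse images along morphisms of sites.
-/
import Groth.Agent.ToposColim.Hom
import Groth.Agent.SiteCoh.NerveExact
import Groth.Agent.QCTopos.Site
import Groth.Agent.QCTopos.Algebraic

set_option backward.isDefEq.respectTransparency false
set_option backward.isDefEq.respectTransparency.types false
set_option linter.style.haveILetI false
set_option linter.unusedSectionVars false
set_option autoImplicit false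
set_option maxHeartbeats 1000000

universe u w

namespace Groth.Agent.ToposColim

open CategoryTheory Category Limits Opposite
open ToposFin
open Groth.Agent.QCTopos

variable {C : Type u} [SmallCategory C] {J : GrothendieckTopology C}

/-- `Hom(X, -)` commutes with a filtered colimit, concretely -/
lemma fp_surj {X : Sh J} (hX : IsFP X) {I : Type u} [SmallCategory I] [IsFiltered I] (D : I ⥤ Sh J)
    (φ : X ⟶ colimit D) : ∃ (i : I) (v : X ⟶ D.obj i), v ≫ colimit.ι D i = φ := by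
  obtain ⟨z, hz⟩ := (hX I D).2 φ
  obtain ⟨i, v, rfl⟩ := Types.jointly_surjective' z
  exact ⟨i, v, (ConcreteCategory.congr_hom (colimit.ι_post D (coyoneda.obj (op X)) i) v).symm.trans hz⟩

lemma fp_inj {X : Sh J} (hX : IsFP X) {I : Type u} [SmallCategory I] [IsFiltered I] (D : I ⥤ Sh J) {i : I}
    (v w : X ⟶ D.obj i) (h : v ≫ colimit.ι D i = w ≫ colimit.ι D i) :
    ∃ (j : I) (a : i ⟶ j), v ≫ D.map a = w ≫ D.map a := by
  have e : colimit.ι (D ⋙ coyoneda.obj (op X)) i v = colimit.ι (D ⋙ coyoneda.obj (op X)) i w :=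
    (hX I D).1 ((ConcreteCategory.congr_hom (colimit.ι_post D (coyoneda.obj (op X)) i) v).trans
      (h.trans (ConcreteCategory.congr_hom (colimit.ι_post D (coyoneda.obj (op X)) i) w).symm))
  exact (Types.FilteredColimit.isColimit_eq_iff' (colimit.isColimit (D ⋙ coyoneda.obj (op X))) (i := i) v w).1 e

lemma isFP_of_concrete {X : Sh J}
    (hs : ∀ (I : Type u) [SmallCategory I] [IsFiltered I] (D : I ⥤ Sh J) (φ : X ⟶ colimit D),
      ∃ (i : I) (v : X ⟶ D.obj i), v ≫ colimit.ι D i = φ)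
    (hi : ∀ (I : Type u) [SmallCategory I] [IsFiltered I] (D : I ⥤ Sh J) (i : I) (v w : X ⟶ D.obj i),
      v ≫ colimit.ι D i = w ≫ colimit.ι D i → ∃ (j : I) (a : i ⟶ j), v ≫ D.map a = w ≫ D.map a) : IsFP X := by
  intro I _ _ D
  refine ⟨fun z z' hz => ?_, fun φ => ?_⟩
  · obtain ⟨i, a, rfl⟩ := Types.jointly_surjective' z
    obtain ⟨i', b, rfl⟩ := Types.jointly_surjective' z'
    let a' : X ⟶ D.obj (IsFiltered.max i i') := (show X ⟶ D.obj i from a) ≫ D.map (IsFiltered.leftToMax i i')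
    let b' : X ⟶ D.obj (IsFiltered.max i i') := (show X ⟶ D.obj i' from b) ≫ D.map (IsFiltered.rightToMax i i')
    obtain ⟨j, c, hc⟩ := hi I D _ a' b' (by
      have e := ((ConcreteCategory.congr_hom (colimit.ι_post D (coyoneda.obj (op X)) i) a).symm.trans hz).trans
        (ConcreteCategory.congr_hom (colimit.ι_post D (coyoneda.obj (op X)) i') b)
      simp only [a', b', assoc, colimit.w]
      exact e)
    refine (Types.FilteredColimit.colimit_eq_iff (F := D ⋙ coyoneda.obj (op X))).2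
      ⟨j, IsFiltered.leftToMax i i' ≫ c, IsFiltered.rightToMax i i' ≫ c, ?_⟩
    show (show X ⟶ D.obj i from a) ≫ D.map (IsFiltered.leftToMax i i' ≫ c) =
      (show X ⟶ D.obj i' from b) ≫ D.map (IsFiltered.rightToMax i i' ≫ c)
    rw [D.map_comp, D.map_comp]
    simpa only [a', b', assoc] using hc
  · obtain ⟨i, v, hv⟩ := hs I D φ
    exact ⟨colimit.ι (D ⋙ coyoneda.obj (op X)) i v,
      (ConcreteCategory.congr_hom (colimit.ι_post D (coyoneda.obj (op X)) i) v).trans hv⟩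

lemma isFP_of_retract {X Y : Sh J} (i : X ⟶ Y) (p : Y ⟶ X) (hip : i ≫ p = 𝟙 X) (hY : IsFP Y) : IsFP X := by
  refine isFP_of_concrete (fun I _ _ D φ => ?_) fun I _ _ D k v w h => ?_
  · obtain ⟨k, v, hv⟩ := fp_surj hY D (p ≫ φ)
    exact ⟨k, i ≫ v, by rw [assoc, hv, ← assoc, hip, id_comp]⟩
  · obtain ⟨j, a, ha⟩ := fp_inj hY D (p ≫ v) (p ≫ w) (by rw [assoc, assoc, h])
    refine ⟨j, a, ?_⟩
    have e := congrArg (i ≫ ·) ha
    simp only [← assoc, hip, id_comp] at e
    exact e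

lemma isFP_coequalizer {X₀ X₁ : Sh J} (a b : X₁ ⟶ X₀) (h₀ : IsFP X₀) (h₁ : IsFP X₁) :
    IsFP (coequalizer a b) := by
  refine isFP_of_concrete (fun I _ _ D φ => ?_) fun I _ _ D k v w h => ?_
  · obtain ⟨k, v, hv⟩ := fp_surj h₀ D (coequalizer.π a b ≫ φ)
    obtain ⟨j, c, hc⟩ := fp_inj h₁ D (a ≫ v) (b ≫ v) (by
      rw [assoc, assoc, hv, coequalizer.condition_assoc])
    refine ⟨j, coequalizer.desc (v ≫ D.map c) (by rw [← assoc, hc, assoc]), coequalizer.hom_ext ?_⟩
    rw [coequalizer.π_desc_assoc, assoc, colimit.w, hv]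
  · obtain ⟨j, c, hc⟩ := fp_inj h₀ D (coequalizer.π a b ≫ v) (coequalizer.π a b ≫ w) (by rw [assoc, assoc, h])
    exact ⟨j, c, coequalizer.hom_ext (by simpa only [assoc] using hc)⟩

lemma isFP_of_coherent (hE : GenBy (J := J) IsQC) {X : Sh J} (hX : IsCoherent X) : IsFP X :=
  fun I _ _ D => bijective_post hE hX I D

lemma genBy_coherent (hE : HasCoherentGenerators J) : GenBy (J := J) IsCoherent := fun X => by
  obtain ⟨ι, F, π, hF, hπ⟩ := hE X
  exact ⟨ι, F, π, hF, epi_desc_iff.1 hπ⟩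

lemma genBy_qc_of_coherent (hE : HasCoherentGenerators J) : GenBy (J := J) IsQC := fun X => by
  obtain ⟨ι, F, π, hF, hπ⟩ := genBy_coherent hE X
  exact ⟨ι, F, π, fun i => (hF i).1, hπ⟩

lemma coherent_sigma {ι : Type u} [Finite ι] {F : ι → Sh J} (h : ∀ i, IsCoherent (F i)) : IsCoherent (∐ F) :=
  ⟨qc_of_finite_js (js_sigma_ι F) fun i => (h i).1, qs_sigma F fun i => (h i).2⟩

lemma coherent_of_retract {X Y : Sh J} (i : X ⟶ Y) (p : Y ⟶ X) (hip : i ≫ p = 𝟙 X) (hY : IsCoherent Y) :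
    IsCoherent X := by
  haveI : IsSplitEpi p := ⟨⟨i, hip⟩⟩
  haveI : IsSplitMono i := ⟨⟨p, hip⟩⟩
  exact ⟨qc_of_epi p hY.1, qs_of_mono i hY.2⟩

/-- every object is the filtered colimit of coequalizers of pairs of maps of coherent objects -/
theorem exists_presentation (hE : HasCoherentGenerators J) (X : Sh J) :
    ∃ (I : Type u) (_ : SmallCategory I) (_ : IsFiltered I) (D : I ⥤ Sh J),
      (∀ i, ∃ (X₀ X₁ : Sh J) (a b : X₁ ⟶ X₀), IsCoherent X₀ ∧ IsCoherent X₁ ∧ D.obj i = coequalizer a b) ∧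
      Nonempty (X ≅ colimit D) := by
  classical
  obtain ⟨ι, F, π, hF, hπ⟩ := genBy_coherent hE X
  choose κ H γ hH hγ using fun i j => genBy_coherent hE (pullback (π i) (π j))
  let I : Type u := {P : Finset ι × Finset (Σ i : ι, Σ j : ι, κ i j) // ∀ r ∈ P.2, r.1 ∈ P.1 ∧ r.2.1 ∈ P.1}
  haveI : Nonempty I := ⟨⟨(∅, ∅), fun r hr => absurd hr (Finset.notMem_empty r)⟩⟩
  haveI : IsDirected I (· ≤ ·) := ⟨fun P Q => ⟨⟨(P.1.1 ∪ Q.1.1, P.1.2 ∪ Q.1.2), fun r hr =>
    (Finset.mem_union.1 hr).elim (fun h => ⟨Finset.mem_union_left _ (P.2 r h).1, Finset.mem_union_left _ (P.2 r h).2⟩)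
      fun h => ⟨Finset.mem_union_right _ (Q.2 r h).1, Finset.mem_union_right _ (Q.2 r h).2⟩⟩,
    ⟨Finset.subset_union_left, Finset.subset_union_left⟩, ⟨Finset.subset_union_right, Finset.subset_union_right⟩⟩⟩
  let X₀ : I → Sh J := fun P => ∐ fun i : P.1.1 => F i.1
  let X₁ : I → Sh J := fun P => ∐ fun r : P.1.2 => H r.1.1 r.1.2.1 r.1.2.2
  let a : ∀ P, X₁ P ⟶ X₀ P := fun P => Sigma.desc fun r : P.1.2 =>
    γ _ _ r.1.2.2 ≫ pullback.fst _ _ ≫ Sigma.ι (fun i : P.1.1 => F i.1) ⟨r.1.1, (P.2 r.1 r.2).1⟩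
  let b : ∀ P, X₁ P ⟶ X₀ P := fun P => Sigma.desc fun r : P.1.2 =>
    γ _ _ r.1.2.2 ≫ pullback.snd _ _ ≫ Sigma.ι (fun i : P.1.1 => F i.1) ⟨r.1.2.1, (P.2 r.1 r.2).2⟩
  let g : ∀ {P Q : I}, P ≤ Q → (X₀ P ⟶ X₀ Q) := fun {P Q} h =>
    Sigma.desc fun i => Sigma.ι (fun i : Q.1.1 => F i.1) ⟨i.1, h.1 i.2⟩
  have hg : ∀ {P Q : I} (h : P ≤ Q), a P ≫ g h ≫ coequalizer.π (a Q) (b Q) = b P ≫ g h ≫ coequalizer.π (a Q) (b Q) := by
    intro P Q h
    refine Sigma.hom_ext _ _ fun r => ?_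
    have e := congrArg (Sigma.ι (fun r : Q.1.2 => H r.1.1 r.1.2.1 r.1.2.2) ⟨r.1, h.2 r.2⟩ ≫ ·)
      (coequalizer.condition (a Q) (b Q))
    simp only [a, b, g, Sigma.ι_desc_assoc, assoc] at e ⊢
    exact e
  let D : I ⥤ Sh J :=
    { obj := fun P => coequalizer (a P) (b P)
      map := fun {P Q} h => coequalizer.desc (g h.le ≫ coequalizer.π (a Q) (b Q)) (hg h.le)
      map_id := fun P => coequalizer.hom_ext (Sigma.hom_ext _ _ fun i => by simp [g])
      map_comp := fun {P Q R} h h' => coequalizer.hom_ext (Sigma.hom_ext _ _ fun i => by simp [g]) }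
  let c : Cocone D :=
    { pt := X
      ι :=
        { app := fun P => coequalizer.desc (Sigma.desc fun i : P.1.1 => π i.1) (Sigma.hom_ext _ _ fun r => by
            simp only [a, b, Sigma.ι_desc_assoc, assoc, Sigma.ι_desc]
            rw [pullback.condition])
          naturality := fun P Q h => coequalizer.hom_ext (Sigma.hom_ext _ _ fun i => by simp [D, g]) } }
  let single : ι → I := fun i => ⟨({i}, ∅), fun r hr => absurd hr (Finset.notMem_empty r)⟩
  have hdesc : ∀ s : Cocone D, ∃ f : X ⟶ s.pt, ∀ i, π i ≫ f =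
      Sigma.ι (fun k : (single i).1.1 => F k.1) ⟨i, Finset.mem_singleton_self i⟩ ≫ coequalizer.π (a (single i)) (b (single i)) ≫ s.ι.app (single i) := by
    intro s
    have key : ∀ (P : I) (i : ι) (hi : i ∈ P.1.1),
        Sigma.ι (fun k : P.1.1 => F k.1) ⟨i, hi⟩ ≫ coequalizer.π (a P) (b P) ≫ s.ι.app P =
          Sigma.ι (fun k : (single i).1.1 => F k.1) ⟨i, Finset.mem_singleton_self i⟩ ≫ coequalizer.π (a (single i)) (b (single i)) ≫ s.ι.app (single i) := by
      intro P i hi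
      have h : single i ≤ P := ⟨Finset.singleton_subset_iff.2 hi, Finset.empty_subset _⟩
      rw [← s.w (homOfLE h)]
      simp [D, g, single]
    refine exists_desc hπ _ fun i j => (hγ i j).cancel fun k => ?_
    let P : I := ⟨({i, j}, {⟨i, j, k⟩}), fun r hr => by
      obtain rfl := Finset.mem_singleton.1 hr
      exact ⟨Finset.mem_insert_self _ _, Finset.mem_insert_of_mem (Finset.mem_singleton_self _)⟩⟩
    rw [← key P i (Finset.mem_insert_self _ _), ← key P j (Finset.mem_insert_of_mem (Finset.mem_singleton_self _))]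
    have e := congrArg (fun t => Sigma.ι (fun r : P.1.2 => H r.1.1 r.1.2.1 r.1.2.2) ⟨⟨i, j, k⟩, Finset.mem_singleton_self _⟩ ≫ t ≫ s.ι.app P)
      (coequalizer.condition (a P) (b P))
    simp only [a, b, Sigma.ι_desc_assoc, assoc] at e
    exact e
  choose f hf using hdesc
  have hc : IsColimit c :=
    { desc := f
      fac := fun s P => coequalizer.hom_ext (Sigma.hom_ext _ _ fun i => by
        simp only [c, coequalizer.π_desc_assoc, Sigma.ι_desc_assoc]
        rw [hf s i.1]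
        have h : single i.1 ≤ P := ⟨Finset.singleton_subset_iff.2 i.2, Finset.empty_subset _⟩
        rw [← s.w (homOfLE h)]
        simp [D, g, single])
      uniq := fun s m hm => hπ.cancel fun i => by
        rw [hf s i, ← hm (single i)]
        simp [c, single] }
  exact ⟨I, inferInstance, inferInstance, D,
    fun P => ⟨X₀ P, X₁ P, a P, b P, coherent_sigma fun i => hF i.1, coherent_sigma fun r => hH _ _ _, rfl⟩,
    ⟨hc.coconePointUniqueUpToIso (colimit.isColimit D)⟩⟩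

theorem isFP_iff (hE : HasCoherentGenerators J) (X : Sh J) :
    IsFP X ↔ ∃ (X₀ X₁ : Sh J) (a b : X₁ ⟶ X₀) (i : X ⟶ coequalizer a b) (p : coequalizer a b ⟶ X),
      IsCoherent X₀ ∧ IsCoherent X₁ ∧ i ≫ p = 𝟙 X := by
  have hE' := genBy_qc_of_coherent hE
  refine ⟨fun h => ?_, fun ⟨X₀, X₁, a, b, i, p, h₀, h₁, hip⟩ =>
    isFP_of_retract i p hip (isFP_coequalizer a b (isFP_of_coherent hE' h₀) (isFP_of_coherent hE' h₁))⟩
  obtain ⟨I, _, _, D, hD, ⟨e⟩⟩ := exists_presentation hE X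
  obtain ⟨k, v, hv⟩ := fp_surj h D e.hom
  obtain ⟨X₀, X₁, a, b, h₀, h₁, hk⟩ := hD k
  exact ⟨X₀, X₁, a, b, v ≫ eqToHom hk, eqToHom hk.symm ≫ colimit.ι D k ≫ e.inv, h₀, h₁, by
    rw [assoc, eqToHom_trans_assoc, eqToHom_refl, id_comp, ← assoc, hv, e.hom_inv_id]⟩

theorem coequalizer_tfae (hE : HasCoherentGenerators J) :
    ((∀ (X₀ X₁ : Sh J) (a b : X₁ ⟶ X₀), IsCoherent X₀ → IsCoherent X₁ → IsCoherent (coequalizer a b)) ↔
      (∀ X : Sh J, IsFP X → IsCoherent X)) ∧
    ((∀ X : Sh J, ∃ (I : Type u) (_ : SmallCategory I) (_ : IsFiltered I) (D : I ⥤ Sh J),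
        (∀ i, IsCoherent (D.obj i)) ∧ Nonempty (X ≅ colimit D)) ↔ (∀ X : Sh J, IsFP X → IsCoherent X)) := by
  have hE' := genBy_qc_of_coherent hE
  refine ⟨⟨fun h X hX => ?_, fun h X₀ X₁ a b h₀ h₁ =>
    h _ (isFP_coequalizer a b (isFP_of_coherent hE' h₀) (isFP_of_coherent hE' h₁))⟩,
    ⟨fun h X hX => ?_, fun h X => ?_⟩⟩
  · obtain ⟨X₀, X₁, a, b, i, p, h₀, h₁, hip⟩ := (isFP_iff hE X).1 hX
    exact coherent_of_retract i p hip (h X₀ X₁ a b h₀ h₁)
  · obtain ⟨I, _, _, D, hD, ⟨e⟩⟩ := h X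
    obtain ⟨k, v, hv⟩ := fp_surj hX D e.hom
    exact coherent_of_retract v (colimit.ι D k ≫ e.inv) (by rw [← assoc, hv, e.hom_inv_id]) (hD k)
  · obtain ⟨I, _, _, D, hD, he⟩ := exists_presentation hE X
    refine ⟨I, inferInstance, inferInstance, D, fun i => ?_, he⟩
    obtain ⟨X₀, X₁, a, b, h₀, h₁, hi⟩ := hD i
    rw [hi]
    exact h _ (isFP_coequalizer a b (isFP_of_coherent hE' h₀) (isFP_of_coherent hE' h₁))

theorem eq_coherent_of_generating (S : Set (Sh J)) (hqc : ∀ K ∈ S, IsQC K)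
    (hiso : ∀ ⦃K L : Sh J⦄, K ∈ S → Nonempty (K ≅ L) → L ∈ S) (hgen : IsGenerating S) (hpb : ClosedUnderPullbacks S)
    (hcolim : ∀ (K : Type) [SmallCategory K] [FinCategory K] (D : K ⥤ Sh J), (∀ k, D.obj k ∈ S) → colimit D ∈ S) :
    (∀ X : Sh J, X ∈ S ↔ IsCoherent X) ∧ ∀ X : Sh J, IsFP X → IsCoherent X := by
  classical
  have hG := genBy_of_isGenerating hgen
  have hcoh : ∀ {K : Sh J}, K ∈ S → IsCoherent K := fun hK => ⟨hqc _ hK, qs_of_mem hqc hgen hpb hK⟩
  -- finite covers by a single member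
  have hcover : ∀ {X : Sh J}, IsQC X → ∃ (L : Sh J) (p : L ⟶ X), L ∈ S ∧ Epi p := by
    intro X hX
    obtain ⟨ι, _, F, π, hF, hπ⟩ := hG.exists_finite hX
    obtain ⟨n, ⟨e⟩⟩ := Finite.exists_equiv_fin ι
    let D : Discrete (Fin n) ⥤ Sh J := Discrete.functor fun k => F (e.symm k)
    refine ⟨colimit D, colimit.desc D (Cofan.mk X fun k => π (e.symm k)), hcolim _ D (fun k => hF _), ?_⟩
    show Epi (Sigma.desc fun k => π (e.symm k))
    refine epi_desc_iff.2 (hπ.of_factor (fun i => e i) (fun i => eqToHom (congrArg F (e.symm_apply_apply i).symm)) fun i => ?_)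
    have key : ∀ (j : ι) (h : i = j), eqToHom (congrArg F h) ≫ π j = π i := by
      rintro j rfl
      simp
    exact key _ (e.symm_apply_apply i).symm
  have hmem : ∀ {X : Sh J}, IsCoherent X → X ∈ S := by
    intro X hX
    obtain ⟨L, p, hL, hp⟩ := hcover hX.1
    obtain ⟨M, q, hM, hq⟩ := hcover (hX.2 _ _ p p (hqc _ hL) (hqc _ hL))
    let P := parallelPair (q ≫ pullback.fst p p) (q ≫ pullback.snd p p)
    have hP : colimit P ∈ S := hcolim WalkingParallelPair P (fun k => by cases k <;> assumption)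
    let c : Cofork (q ≫ pullback.fst p p) (q ≫ pullback.snd p p) :=
      Cofork.ofπ p (by rw [assoc, assoc, pullback.condition])
    have hdesc : ∀ s : Cofork (q ≫ pullback.fst p p) (q ≫ pullback.snd p p), ∃ f : X ⟶ s.pt, p ≫ f = s.π := fun s => by
      obtain ⟨f, hf⟩ := exists_desc (ι := PUnit.{u + 1}) (π := fun _ => p) (js_of_epi p) (fun _ => s.π) fun _ _ =>
        (cancel_epi q).1 (by simpa only [assoc] using s.condition)
      exact ⟨f, hf PUnit.unit⟩
    choose f hf using hdesc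
    have hc : IsColimit c := Cofork.IsColimit.mk c f hf fun s m hm => (cancel_epi p).1 (hm.trans (hf s).symm)
    exact hiso hP ⟨(colimit.isColimit P).coconePointUniqueUpToIso hc⟩
  have hS : ∀ X : Sh J, X ∈ S ↔ IsCoherent X := fun X => ⟨hcoh, hmem⟩
  refine ⟨hS, ?_⟩
  have hE : HasCoherentGenerators J := fun X => by
    obtain ⟨ι, F, π, hF, hπ⟩ := hG X
    exact ⟨ι, F, π, fun i => hcoh (hF i), epi_desc_iff.2 hπ⟩
  exact (coequalizer_tfae hE).1.1 fun X₀ X₁ a b h₀ h₁ =>
    hcoh (hcolim WalkingParallelPair (parallelPair a b) (fun k => by cases k <;> exact hmem ‹_›))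

section Pullback

variable {D : Type u} [SmallCategory D] {K : GrothendieckTopology D} (G : C ⥤ D) [G.IsContinuous J K]

/-- the inverse image of a representable sheaf is representable -/
noncomputable def pullEpsIso (V : C) : (G.sheafPullback (Type u) J K).obj (eps J V) ≅ eps K (G.obj V) :=
  let T : Sh K ⥤ Type u := sheafToPresheaf K (Type u) ⋙ (evaluation Dᵒᵖ (Type u)).obj (op (G.obj V))
  let adj := G.sheafAdjunctionContinuous (Type u) J K
  let c₁ : T.CorepresentableBy ((G.sheafPullback (Type u) J K).obj (eps J V)) :=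
    { homEquiv := fun {Z} => (adj.homEquiv (eps J V) Z).trans
        (SiteCoh.repEquiv V ((G.sheafPushforwardContinuous (Type u) J K).obj Z))
      homEquiv_comp := fun {Z Z'} g f => by
        simp only [Equiv.trans_apply, Adjunction.homEquiv_naturality_right]
        exact SiteCoh.repEquiv_comp V _ _ }
  let c₂ : T.CorepresentableBy (eps K (G.obj V)) :=
    { homEquiv := fun {Z} => SiteCoh.repEquiv (G.obj V) Z
      homEquiv_comp := fun {Z Z'} g f => SiteCoh.repEquiv_comp (G.obj V) f g }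
  c₁.uniqueUpToIso c₂

theorem sheafPullback_coherent [HasPullbacks C] [HasPullbacks D] (hC : ∀ X : C, IsQCSite J X)
    (hD : ∀ Y : D, IsQCSite K Y) [PreservesFiniteLimits (G.sheafPullback (Type u) J K)] :
    (∀ X : Sh J, IsQC X → IsQC ((G.sheafPullback (Type u) J K).obj X)) ∧
      ∀ X : Sh J, IsQS X → IsQS ((G.sheafPullback (Type u) J K).obj X) := by
  let T : Set (Sh J) := Set.ofPred fun L => ∃ V, L = eps J V
  have hgen : IsGenerating T := fun X => by
    obtain ⟨ι, F, π, hF, hπ⟩ := genBy_eps (J := J) X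
    exact ⟨ι, F, π, hF, fun _ _ _ => hπ.cancel⟩
  have hqc : ∀ L ∈ T, IsQC ((G.sheafPullback (Type u) J K).obj L) := by
    rintro L ⟨V, rfl⟩
    exact qc_of_iso (pullEpsIso G V).symm ((qc_eps_iff _).2 (hD _))
  have hqs : ∀ L ∈ T, IsCoherent ((G.sheafPullback (Type u) J K).obj L) := by
    rintro L ⟨V, rfl⟩
    exact ⟨qc_of_iso (pullEpsIso G V).symm (coherent_eps hD (G.obj V)).1,
      qs_of_iso (pullEpsIso G V).symm (coherent_eps hD (G.obj V)).2⟩
  refine ⟨fun X hX => qc_map (G.sheafAdjunctionContinuous (Type u) J K) hgen hqc hX, fun X hX => ?_⟩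
  exact qs_map (G.sheafAdjunctionContinuous (Type u) J K) (genBy_qc hD) (fun L hL => by obtain ⟨V, rfl⟩ := hL; exact coherent_eps hC V)
    hgen hqs hX

end Pullback

end Groth.Agent.ToposColim
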